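import Mathlib

set_option autoImplicit false
set_option maxRecDepth 100000

namespace Cfsg.Agent.Lib.Helper3.L211a.L1

noncomputable def fc0_0 (i : ℕ) : ℕ := (nat_lit 0xa00014300000a0001420000080001010000080001010000070000e10000070000e10000000000070000000000070000000000030000000000020000000000080000000000090000060000e30000070000c20000080001230000090001020000020000630000030000420000060000c10000060000c100000000000600000000000600000000000500000000000400000900014100000a0001210000050001220000090000a30000050001030000080000a20000040000e20000070000830000040000c30000060000820000030000a1000005000061000002000081000004000041000001000062000003000023000001000043000002000022000000000021000001000001)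
noncomputable def sc0_0 (i : ℕ) : ℕ := (nat_lit 0x1700000d00000100001b00002100000f00002200001c00000300000b00001100001f0000230000270000290000070000280000240000200000180000160015000900001900001f00002300002700000500002600002400002000001a00000100001b00002100002500002700000400002600002200001e0000180013000800001900001f00002300002500001000000f00001000000500000100002400002200001e000018000d000700000d0001000600000c0001000500000a00000900000b00000900000a00000900000a0007000400001300001700001b0000180000030000160000100007000300000d00001300000100001900001600001200000a000700030000170000140002000200000d00001100001500001700000100001600001400001000000c000900010000fffe0000fffe0000ffff0000ffff0000ffff0000ffff0000ffff0000ffff0000ffff0000ffff0000ffff0000ffff)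
noncomputable def nc0_0 (i : ℕ) : ℕ := (nat_lit 0xa000009000008000007000006000005000004000003000002000001000000)
noncomputable def cc0_0 (i : ℕ) : ℕ := (nat_lit 0xa00002a00000900001200000800001c00000a00001300000500000e00000800002800000600001e00000700002600000400000a00000600001800000900001100000300000800000700000d00000200000600000200001a000005000009000001000002000004000007000003000005000000000000000000000022000001000001)

end Cfsg.Agent.Lib.Helper3.L211a.L1
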