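import Mathlib

set_option autoImplicit false
set_option maxRecDepth 100000

namespace Cfsg.Agent.Lib.Helper3.L211a.L2

noncomputable def fc0_0 (i : ℕ) : ℕ := (nat_lit 0x50000a60000050000a60000000000060000000000060000090001240000090001250000080000c60000060001060000050000c50000060000a40000070001050000080000e40000010000450000020000240000000000090000000000080000000000070000000000070000070001260000090000e60000040001040000080000850000040000e50000070000840000030000c40000060000650000030000a5000005000064000002000086000004000046000001000066000003000026000000000044000002000005000000000025000001000004)
noncomputable def sc0_0 (i : ℕ) : ℕ := (nat_lit 0x1900001600000500000900001500001b00000b00002100000100001e00000b00001c000016000007000e000600000d0001000500000d00000400000000001300001900000600001600001000000c0009000400000d00001500001900000600001a0000160000100007000300001100001500001900001600000300001400000e0007000200000b00001100000100001700001400001000000800070002000015000012000200010000fffe0000fffe0000ffff0000ffff0000ffff0000ffff0000ffff0000ffff0000ffff0000ffff0000ffff)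
noncomputable def nc0_0 (i : ℕ) : ℕ := (nat_lit 0x9000008000007000006000005000004000003000002000001000000)
noncomputable def cc0_0 (i : ℕ) : ℕ := (nat_lit 0x700001000000900001f00000600001d00000700001800000900001100000400000c00000800001c00000500001a00000500002200000300000800000200000600000800000f00000100000400000600000b000004000007000001000016000003000005000000000000000000000020000002000003)

end Cfsg.Agent.Lib.Helper3.L211a.L2
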